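import Groth.Agent.L22.AffineDescent
import Groth.Agent.L11.Magnet.Factor
import Mathlib.Algebra.Category.Ring.Under.Limits
import Mathlib.CategoryTheory.Monoidal.Cartesian.Over
import Mathlib.LinearAlgebra.TensorProduct.Basis

/-!
Global functions on products of affine schemes over a field.
-/

set_option autoImplicit false
universe u

open CategoryTheory CategoryTheory.Limits MonoidalCategory CartesianMonoidalCategory AlgebraicGeometry
open scoped TensorProduct

set_option backward.isDefEq.respectTransparency false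
set_option backward.isDefEq.respectTransparency.types false

noncomputable section

namespace Groth.L14.MagnetUnits

variable {k : Type u} [Field k]

/-- The structure map of the ring of global functions. -/
def sa (Z : Over (Spec (CommRingCat.of k))) : k →+* Γ(Z.left, ⊤) :=
  ((Scheme.ΓSpecIso (CommRingCat.of k)).inv ≫ Z.hom.appTop).hom

/-- The algebra of global functions. -/
@[reducible] def gAlg (Z : Over (Spec (CommRingCat.of k))) : Algebra k Γ(Z.left, ⊤) := (sa Z).toAlgebra

attribute [local instance] gAlg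

theorem appTop_sa {Z W : Over (Spec (CommRingCat.of k))} (f : Z ⟶ W) (c : k) :
    f.left.appTop (sa W c) = sa Z c := by
  show f.left.appTop (W.hom.appTop ((Scheme.ΓSpecIso (CommRingCat.of k)).inv c)) = _
  rw [← ConcreteCategory.comp_apply, ← Scheme.Hom.comp_appTop, Over.w f]
  rfl

/-- Pullback of global functions. -/
def tap {Z W : Over (Spec (CommRingCat.of k))} (f : Z ⟶ W) : Γ(W.left, ⊤) →ₐ[k] Γ(Z.left, ⊤) where
  __ := f.left.appTop.hom
  commutes' c := appTop_sa f c

@[simp] theorem tap_apply {Z W : Over (Spec (CommRingCat.of k))} (f : Z ⟶ W) (x : Γ(W.left, ⊤)) :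
    tap f x = f.left.appTop x := rfl

theorem tap_comp {Z W V : Over (Spec (CommRingCat.of k))} (f : Z ⟶ W) (g : W ⟶ V) :
    tap (f ≫ g) = (tap f).comp (tap g) := by
  ext x
  simp [Scheme.Hom.comp_appTop]

theorem hom_ext_affine {Z W : Over (Spec (CommRingCat.of k))} [IsAffine W.left] {f g : Z ⟶ W}
    (h : tap f = tap g) : f = g :=
  Over.OverMorphism.ext (ext_of_isAffine (CommRingCat.hom_ext (RingHom.ext fun x => DFunLike.congr_fun h x)))

theorem exists_hom_of_algHom {Z W : Over (Spec (CommRingCat.of k))} [IsAffine W.left]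
    (g : Γ(W.left, ⊤) →ₐ[k] Γ(Z.left, ⊤)) : ∃ f : Z ⟶ W, tap f = g := by
  let f : Z.left ⟶ W.left := Z.left.toSpecΓ ≫ Spec.map (CommRingCat.ofHom g.toRingHom) ≫ W.left.isoSpec.inv
  have hinv : W.left.isoSpec.inv.appTop ≫ (Scheme.ΓSpecIso Γ(W.left, ⊤)).hom = 𝟙 _ := by
    rw [← Scheme.toSpecΓ_appTop, ← Scheme.Hom.comp_appTop]
    show (W.left.isoSpec.hom ≫ W.left.isoSpec.inv).appTop = _
    rw [Iso.hom_inv_id]
    rfl
  have hf : f.appTop = CommRingCat.ofHom g.toRingHom := by
    simp only [f, Scheme.Hom.comp_appTop, Category.assoc, Scheme.toSpecΓ_appTop, Scheme.ΓSpecIso_naturality]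
    exact ((Category.assoc _ _ _).symm.trans (congrArg (· ≫ _) hinv)).trans (Category.id_comp _)
  refine ⟨Over.homMk f ?_, AlgHom.ext fun x => ?_⟩
  · refine ext_of_isAffine ?_
    rw [Scheme.Hom.comp_appTop, hf]
    refine (cancel_epi (Scheme.ΓSpecIso (CommRingCat.of k)).inv).1 ?_
    ext c
    exact g.commutes c
  · show f.appTop x = g x
    rw [hf]
    rfl

/-- Functions on two factors give functions on the product. -/
def theta (P T : Over (Spec (CommRingCat.of k))) :
    Γ(P.left, ⊤) ⊗[k] Γ(T.left, ⊤) →ₐ[k] Γ((P ⊗ T).left, ⊤) :=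
  Algebra.TensorProduct.lift (tap (fst P T)) (tap (snd P T)) fun _ _ => Commute.all _ _

theorem theta_tmul (P T : Over (Spec (CommRingCat.of k))) (x : Γ(P.left, ⊤)) (y : Γ(T.left, ⊤)) :
    theta P T (x ⊗ₜ y) = tap (fst P T) x * tap (snd P T) y := rfl

theorem theta_natural {P P' T T' : Over (Spec (CommRingCat.of k))} (f : P' ⟶ P) (g : T' ⟶ T) :
    (theta P' T').comp (Algebra.TensorProduct.map (tap f) (tap g)) = (tap (f ⊗ₘ g)).comp (theta P T) := by
  refine Algebra.TensorProduct.ext' fun x y => ?_
  rw [AlgHom.comp_apply, AlgHom.comp_apply, Algebra.TensorProduct.map_tmul, theta_tmul, theta_tmul, map_mul]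
  congr 1
  · exact DFunLike.congr_fun ((tap_comp _ f).symm.trans ((congrArg tap (tensorHom_fst f g).symm).trans (tap_comp _ _))) x
  · exact DFunLike.congr_fun ((tap_comp _ g).symm.trans ((congrArg tap (tensorHom_snd f g).symm).trans (tap_comp _ _))) y

theorem theta_bijective (P T : Over (Spec (CommRingCat.of k))) [IsAffine P.left] [IsAffine T.left] :
    Function.Bijective (theta P T) := by
  have : Flat T.hom := Groth.L11.Magnet.flat_of_field T
  have H : IsPullback (fst P T).left (snd P T).left P.hom T.hom := IsPullback.of_hasPullback P.hom T.hom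
  have h1 := Groth.L22.AffDesc.isPushout_appTop H
  have h2 : IsPushout (CommRingCat.ofHom (algebraMap k Γ(P.left, ⊤))) (CommRingCat.ofHom (algebraMap k Γ(T.left, ⊤)))
      (fst P T).left.appTop (snd P T).left.appTop := by
    refine h1.of_iso (Scheme.ΓSpecIso (CommRingCat.of k)) (Iso.refl _) (Iso.refl _) (Iso.refl _) ?_ ?_ ?_ ?_
    · simp only [Iso.refl_hom, Category.comp_id]
      rw [← Iso.inv_comp_eq]
      rfl
    · simp only [Iso.refl_hom, Category.comp_id]
      rw [← Iso.inv_comp_eq]
      rfl
    · simp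
    · simp
  let e := (CommRingCat.isPushout_tensorProduct k Γ(P.left, ⊤) Γ(T.left, ⊤)).isoIsPushout _ _ h2
  have he : CommRingCat.ofHom (theta P T).toRingHom = e.hom := by
    refine (CommRingCat.isPushout_tensorProduct k Γ(P.left, ⊤) Γ(T.left, ⊤)).hom_ext ?_ ?_
    · rw [IsPushout.inl_isoIsPushout_hom]
      ext x
      show theta P T (x ⊗ₜ 1) = _
      rw [theta_tmul, map_one, mul_one]
      rfl
    · rw [IsPushout.inr_isoIsPushout_hom]
      ext x
      show theta P T ((1 : Γ(P.left, ⊤)) ⊗ₜ x) = _
      rw [theta_tmul, map_one, one_mul]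
      rfl
  have : Function.Bijective (CommRingCat.ofHom (theta P T).toRingHom) := by
    rw [he]
    exact (ConcreteCategory.isIso_iff_bijective _).1 inferInstance
  exact this

/-- The slice of a tensor along a functional on the first factor. -/
def slice {D : Type u} [AddCommGroup D] [Module k D] (R : Type u) [AddCommGroup R] [Module k R]
    (l : D →ₗ[k] k) : D ⊗[k] R →ₗ[k] R :=
  (TensorProduct.lid k R).toLinearMap.comp (LinearMap.rTensor R l)

theorem slice_tmul {D R : Type u} [AddCommGroup D] [Module k D] [AddCommGroup R] [Module k R]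
    (l : D →ₗ[k] k) (x : D) (r : R) : slice R l (x ⊗ₜ r) = l x • r := by simp [slice]

theorem slice_map {D R R' : Type u} [AddCommGroup D] [Module k D] [AddCommGroup R] [Module k R]
    [AddCommGroup R'] [Module k R'] (l : D →ₗ[k] k) (f : R →ₗ[k] R') (σ : D ⊗[k] R) :
    slice R' l (LinearMap.lTensor D f σ) = f (slice R l σ) := by
  induction σ using TensorProduct.induction_on with
  | zero => simp
  | tmul x r => simp [slice_tmul]
  | add a b ha hb => simp [ha, hb]

theorem slice_rTensor {C D R : Type u} [AddCommGroup C] [Module k C] [AddCommGroup D] [Module k D]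
    [AddCommGroup R] [Module k R] (ι : C →ₗ[k] D) (l : D →ₗ[k] k) (σ : C ⊗[k] R) :
    slice R l (LinearMap.rTensor R ι σ) = slice R (l.comp ι) σ := by
  simp [slice, ← LinearMap.rTensor_comp_apply]

theorem slice_zero {D R : Type u} [AddCommGroup D] [Module k D] [AddCommGroup R] [Module k R] :
    slice R (0 : D →ₗ[k] k) = 0 := by simp [slice]

theorem eq_zero_of_slice {D R : Type u} [AddCommGroup D] [Module k D] [AddCommGroup R] [Module k R]
    (τ : D ⊗[k] R) (h : ∀ l : D →ₗ[k] k, slice R l τ = 0) : τ = 0 := by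
  classical
  let b := Module.Free.chooseBasis k D
  apply (TensorProduct.equivFinsuppOfBasisLeft b).injective
  ext i
  have : ∀ σ : D ⊗[k] R, TensorProduct.equivFinsuppOfBasisLeft b σ i = slice R (b.coord i) σ := fun σ => by
    induction σ using TensorProduct.induction_on with
    | zero => simp
    | tmul x r => simp [slice_tmul]
    | add a c ha hc => simp [ha, hc]
  rw [this, h, map_zero, Finsupp.zero_apply]

theorem mem_range_rTensor {C D R : Type u} [AddCommGroup C] [Module k C] [AddCommGroup D] [Module k D]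
    [AddCommGroup R] [Module k R] (ι : C →ₗ[k] D) (hι : Function.Injective ι) (σ : D ⊗[k] R)
    (h : ∀ l : D →ₗ[k] k, l.comp ι = 0 → slice R l σ = 0) : σ ∈ LinearMap.range (LinearMap.rTensor R ι) := by
  obtain ⟨p, hp⟩ := LinearMap.exists_leftInverse_of_injective ι (LinearMap.ker_eq_bot.2 hι)
  let q : D →ₗ[k] D := LinearMap.id - ι.comp p
  have hq : q.comp ι = 0 := by
    rw [LinearMap.sub_comp, LinearMap.comp_assoc, hp, LinearMap.id_comp, LinearMap.comp_id, sub_self]
  have h0 : LinearMap.rTensor R q σ = 0 := eq_zero_of_slice _ fun μ => by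
    rw [slice_rTensor]
    exact h _ (by rw [LinearMap.comp_assoc, hq, LinearMap.comp_zero])
  refine ⟨LinearMap.rTensor R p σ, ?_⟩
  rw [← LinearMap.rTensor_comp_apply]
  rw [LinearMap.rTensor_sub, LinearMap.sub_apply, LinearMap.rTensor_id, LinearMap.id_apply, sub_eq_zero] at h0
  exact h0.symm

end Groth.L14.MagnetUnits
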