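import Groth.Agent.L14.Magnet.GlobalTensor

/-!
For a monoid containing a schematically dense affine group, the equivariant maps into an affine target are a
closed subscheme of the target.
-/

set_option autoImplicit false
universe u

open CategoryTheory CategoryTheory.Limits MonoidalCategory CartesianMonoidalCategory MonObj AlgebraicGeometry Opposite
open scoped TensorProduct

set_option backward.isDefEq.respectTransparency false
set_option backward.isDefEq.respectTransparency.types false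

noncomputable section

namespace Groth.L14.MagnetUnits

open _root_.Magnet

attribute [local instance] gAlg

variable {k : Type u} [Field k] {M G X : Over (Spec (CommRingCat.of k))} [MonObj M] [GrpObj G] (i : G ⟶ M)
  (a : MonAct G X)

/-- The orbit map of a point extends over the monoid. -/
def Ext {T : Over (Spec (CommRingCat.of k))} (x : T ⟶ X) : Prop :=
  ∃ φ : M ⊗ T ⟶ X, (i ▷ T) ≫ φ = (G ◁ x) ≫ a.act

theorem Ext.comp {T T' : Over (Spec (CommRingCat.of k))} {x : T ⟶ X} (h : Ext i a x) (t : T' ⟶ T) :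
    Ext i a (t ≫ x) := by
  obtain ⟨φ, hφ⟩ := h
  exact ⟨(M ◁ t) ≫ φ, by rw [← whisker_exchange_assoc, hφ, MonoidalCategory.whiskerLeft_comp, Category.assoc]⟩

theorem cancel_whiskerRight [QuasiCompact i.left] [IsSchemeTheoreticallyDominant i.left] [IsAffine X.left]
    {W : Over (Spec (CommRingCat.of k))} {ψ ψ' : M ⊗ W ⟶ X} (h : (i ▷ W) ≫ ψ = (i ▷ W) ≫ ψ') : ψ = ψ' := by
  have := Groth.L11.Magnet.isSchemeTheoreticallyDominant_whiskerRight i W
  have : QuasiCompact (i ▷ W).left :=
    MorphismProperty.of_isPullback (Groth.L11.Magnet.isPullback_whiskerRight i W) inferInstance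
  refine Over.OverMorphism.ext (ext_of_isAffine (CommRingCat.hom_ext (RingHom.ext fun b => ?_)))
  apply (i ▷ W).left.app_injective ⊤
  exact congrArg (fun f => f b) ((Scheme.Hom.comp_appTop _ _).symm.trans
    ((congrArg (fun f : G ⊗ W ⟶ X => f.left.appTop) h).trans (Scheme.Hom.comp_appTop _ _)))

variable {i a}

theorem eq_comp_eval [IsMonHom i] {T : Over (Spec (CommRingCat.of k))} {x : T ⟶ X} (φ : M ⊗ T ⟶ X)
    (h : (i ▷ T) ≫ φ = (G ◁ x) ≫ a.act) : lift (toUnit T ≫ η[M]) (𝟙 T) ≫ φ = x := by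
  have h' := congrArg (fun f => lift (1 : T ⟶ G) (𝟙 T) ≫ f) h
  simp only [lift_whiskerRight_assoc, lift_whiskerLeft_assoc, Category.id_comp, MonObj.one_comp,
    a.lift_one_act] at h'
  rwa [Hom.one_def] at h'

theorem isEquivariant_of_ext [IsMonHom i] [QuasiCompact i.left] [IsSchemeTheoreticallyDominant i.left] [IsAffine X.left]
    {T : Over (Spec (CommRingCat.of k))} {x : T ⟶ X} (φ : M ⊗ T ⟶ X)
    (h : (i ▷ T) ≫ φ = (G ◁ x) ≫ a.act) :
    MonAct.IsEquivariant (((MonAct.regular M).restrict i).prod (MonAct.trivial G T)) a φ := by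
  rw [MonAct.mem_eqvHom_iff]
  intro T' g b t
  rw [MonAct.lift_restrict_act, MonAct.lift_regular_act]
  let b₀ := fst M (G ⊗ T)
  let g₀ := snd M (G ⊗ T) ≫ fst G T
  let t₀ := snd M (G ⊗ T) ≫ snd G T
  have hu : lift ((g₀ ≫ i) * b₀) t₀ ≫ φ = lift g₀ (lift b₀ t₀ ≫ φ) ≫ a.act := by
    refine cancel_whiskerRight i (hom_ext_lift₂ fun U p q => ?_)
    have hφ : ∀ (s : U ⟶ G) (w : U ⟶ T), lift (s ≫ i) w ≫ φ = lift s (w ≫ x) ≫ a.act := fun s w => by
      have := congrArg (fun f => lift s w ≫ f) h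
      simpa only [lift_whiskerRight_assoc, lift_whiskerLeft_assoc] using this
    simp only [lift_whiskerRight_assoc, comp_lift_assoc, MonObj.comp_mul, b₀, g₀, t₀, lift_fst, lift_snd_assoc,
      Category.assoc]
    rw [← Category.assoc q, ← MonObj.mul_comp, hφ, hφ, a.lift_mul_act]
  have h2 := congrArg (fun f => lift b (lift g t) ≫ f) hu
  simpa only [comp_lift_assoc, MonObj.comp_mul, b₀, g₀, t₀, lift_fst, lift_snd_assoc, lift_fst_assoc, lift_snd,
    Category.assoc] using h2

variable (i a)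

/-- The coaction of the group on functions of the target. -/
def coact [IsAffine G.left] [IsAffine X.left] : Γ(X.left, ⊤) →ₐ[k] Γ(G.left, ⊤) ⊗[k] Γ(X.left, ⊤) :=
  (AlgEquiv.ofBijective (theta G X) (theta_bijective G X)).symm.toAlgHom.comp (tap a.act)

theorem theta_coact [IsAffine G.left] [IsAffine X.left] (b : Γ(X.left, ⊤)) :
    theta G X (coact a b) = tap a.act b :=
  (AlgEquiv.ofBijective (theta G X) (theta_bijective G X)).apply_symm_apply _

/-- The ideal of the points whose orbit map extends. -/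
def extIdeal [IsAffine G.left] [IsAffine X.left] : Ideal Γ(X.left, ⊤) :=
  Ideal.span {y | ∃ (b : Γ(X.left, ⊤)) (l : Γ(G.left, ⊤) →ₗ[k] k),
    l.comp (tap i).toLinearMap = 0 ∧ slice Γ(X.left, ⊤) l (coact a b) = y}

variable [IsAffine M.left] [IsAffine G.left] [IsAffine X.left]

theorem theta_left {T : Over (Spec (CommRingCat.of k))} (σ : Γ(M.left, ⊤) ⊗[k] Γ(T.left, ⊤)) :
    theta G T (Algebra.TensorProduct.map (tap i) (AlgHom.id k _) σ) = tap (i ▷ T) (theta M T σ) := by
  have e : tap (𝟙 T) = AlgHom.id k _ := AlgHom.ext fun x => by simp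
  have := DFunLike.congr_fun (theta_natural i (𝟙 T)) σ
  rw [tensorHom_id, e] at this
  exact this

theorem theta_right {T : Over (Spec (CommRingCat.of k))} (x : T ⟶ X) (b : Γ(X.left, ⊤)) :
    theta G T (Algebra.TensorProduct.map (AlgHom.id k _) (tap x) (coact a b)) = tap ((G ◁ x) ≫ a.act) b := by
  have e : tap (𝟙 G) = AlgHom.id k _ := AlgHom.ext fun x => by simp
  have := DFunLike.congr_fun (theta_natural (𝟙 G) x) (coact a b)
  rw [id_tensorHom, e] at this
  rw [tap_comp, AlgHom.comp_apply, ← theta_coact a b]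
  exact this

theorem slice_ker_of_ext_affine {T : Over (Spec (CommRingCat.of k))} [IsAffine T.left] {x : T ⟶ X}
    (h : Ext i a x) (b : Γ(X.left, ⊤)) (l : Γ(G.left, ⊤) →ₗ[k] k) (hl : l.comp (tap i).toLinearMap = 0) :
    tap x (slice Γ(X.left, ⊤) l (coact a b)) = 0 := by
  obtain ⟨φ, hφ⟩ := h
  obtain ⟨σ, hσ⟩ := (theta_bijective M T).2 (tap φ b)
  have h1 : Algebra.TensorProduct.map (tap i) (AlgHom.id k _) σ =
      Algebra.TensorProduct.map (AlgHom.id k _) (tap x) (coact a b) := by
    apply (theta_bijective G T).1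
    rw [theta_left, theta_right, hσ, ← hφ, tap_comp]
    rfl
  refine (slice_map l (tap x).toLinearMap (coact a b)).symm.trans ?_
  show slice _ l (Algebra.TensorProduct.map (AlgHom.id k _) (tap x) (coact a b)) = 0
  rw [← h1]
  show slice _ l (LinearMap.rTensor _ (tap i).toLinearMap σ) = 0
  rw [slice_rTensor, hl, slice_zero, LinearMap.zero_apply]

theorem le_ker_of_ext {T : Over (Spec (CommRingCat.of k))} {x : T ⟶ X} (h : Ext i a x) :
    extIdeal i a ≤ RingHom.ker (tap x) := by
  rw [extIdeal, Ideal.span_le]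
  rintro _ ⟨b, l, hl, rfl⟩
  rw [SetLike.mem_coe, RingHom.mem_ker]
  refine T.left.IsSheaf.section_ext fun p _ => ?_
  obtain ⟨_, ⟨U₀, hU, rfl⟩, hpU, -⟩ :=
    T.left.isBasis_affineOpens.exists_subset_of_mem_open (Set.mem_univ p) isOpen_univ
  let U : T.left.Opens := U₀
  refine ⟨U, le_top, hpU, ?_⟩
  let j : Over.mk (U.ι ≫ T.hom) ⟶ T := Over.homMk U.ι rfl
  have : IsAffine (Over.mk (U.ι ≫ T.hom)).left := hU
  have h0 := slice_ker_of_ext_affine i a (h.comp i a j) b l hl
  rw [tap_comp, AlgHom.comp_apply] at h0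
  have h1 := congrArg (fun z => U.topIso.hom z) h0
  simp only [map_zero] at h1
  rw [map_zero, ← h1]
  show _ = U.topIso.hom (U.ι.appTop (tap x (slice Γ(X.left, ⊤) l (coact a b))))
  rw [Scheme.Hom.appTop, Scheme.Opens.ι_app, ← ConcreteCategory.comp_apply, Scheme.Opens.topIso_hom, ← Functor.map_comp]
  rfl

theorem exists_universal [QuasiCompact i.left] [IsSchemeTheoreticallyDominant i.left] :
    ∃ (Z : Over (Spec (CommRingCat.of k))) (j : Z ⟶ X), IsClosedImmersion j.left ∧ Ext i a j ∧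
      ∀ (T : Over (Spec (CommRingCat.of k))) (x : T ⟶ X), Ext i a x → ∃ z : T ⟶ Z, z ≫ j = x := by
  let B : Type u := Γ(X.left, ⊤)
  let q : B →+* B ⧸ extIdeal i a := Ideal.Quotient.mk _
  let ZL : Scheme.{u} := Spec (CommRingCat.of (B ⧸ extIdeal i a))
  let f : ZL ⟶ X.left := Spec.map (CommRingCat.ofHom q) ≫ X.left.isoSpec.inv
  have : IsClosedImmersion (Spec.map (CommRingCat.ofHom q)) :=
    IsClosedImmersion.spec_of_surjective _ Ideal.Quotient.mk_surjective
  have hcl : IsClosedImmersion f := inferInstanceAs (IsClosedImmersion (Spec.map _ ≫ X.left.isoSpec.inv))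
  let Z : Over (Spec (CommRingCat.of k)) := Over.mk (f ≫ X.hom)
  let j : Z ⟶ X := Over.homMk f rfl
  have : IsAffine Z.left := inferInstanceAs (IsAffine ZL)
  have hsur : Function.Surjective (tap j) := f.app_surjective ⊤ (isAffineOpen_top _)
  have hinv : X.left.isoSpec.inv.appTop ≫ (Scheme.ΓSpecIso Γ(X.left, ⊤)).hom = 𝟙 _ := by
    rw [← Scheme.toSpecΓ_appTop, ← Scheme.Hom.comp_appTop]
    show (X.left.isoSpec.hom ≫ X.left.isoSpec.inv).appTop = _
    rw [Iso.hom_inv_id]
    rfl
  have hval : ∀ y, (Scheme.ΓSpecIso (CommRingCat.of (B ⧸ extIdeal i a))).hom (tap j y) = q y := fun y => by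
    show (f.appTop ≫ (Scheme.ΓSpecIso (CommRingCat.of (B ⧸ extIdeal i a))).hom) y = _
    simp only [f, Scheme.Hom.comp_appTop, Category.assoc, Scheme.ΓSpecIso_naturality]
    exact congrArg q (congrArg (fun g => (ConcreteCategory.hom g) y) hinv)
  have hker : ∀ y, tap j y = 0 ↔ y ∈ extIdeal i a := fun y => by
    rw [← Ideal.Quotient.eq_zero_iff_mem]
    constructor
    · intro h
      rw [show Ideal.Quotient.mk (extIdeal i a) y = q y from rfl, ← hval, h, map_zero]
    · intro h
      apply (Scheme.ΓSpecIso (CommRingCat.of (B ⧸ extIdeal i a))).commRingCatIsoToRingEquiv.injective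
      exact (hval y).trans (h.trans (map_zero _).symm)
  refine ⟨Z, j, hcl, ?_, fun T x hx => ?_⟩
  · have hinj : Function.Injective (tap i) := i.left.app_injective ⊤
    have hinj' : Function.Injective (Algebra.TensorProduct.map (tap i) (AlgHom.id k Γ(Z.left, ⊤))) :=
      Module.Flat.rTensor_preserves_injective_linearMap (tap i).toLinearMap hinj
    have hrange : ∀ b, Algebra.TensorProduct.map (AlgHom.id k _) (tap j) (coact a b) ∈
        (Algebra.TensorProduct.map (tap i) (AlgHom.id k Γ(Z.left, ⊤))).range := fun b => by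
      obtain ⟨σ, hσ⟩ := mem_range_rTensor (tap i).toLinearMap hinj
        (LinearMap.lTensor _ (tap j).toLinearMap (coact a b)) fun l hl => by
          rw [slice_map]
          exact (hker _).2 (Ideal.subset_span ⟨b, l, hl, rfl⟩)
      exact ⟨σ, hσ⟩
    let e := AlgEquiv.ofInjective (Algebra.TensorProduct.map (tap i) (AlgHom.id k Γ(Z.left, ⊤))) hinj'
    let g : Γ(X.left, ⊤) →ₐ[k] Γ(M.left, ⊤) ⊗[k] Γ(Z.left, ⊤) :=
      e.symm.toAlgHom.comp (((Algebra.TensorProduct.map (AlgHom.id k _) (tap j)).comp (coact a)).codRestrict _ hrange)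
    obtain ⟨φ, hφ⟩ := exists_hom_of_algHom (Z := M ⊗ Z) ((theta M Z).comp g)
    refine ⟨φ, hom_ext_affine (AlgHom.ext fun b => ?_)⟩
    rw [tap_comp, hφ, AlgHom.comp_apply, AlgHom.comp_apply, ← theta_left, ← theta_right a]
    exact congrArg (theta G Z) (congrArg Subtype.val (e.apply_symm_apply ⟨_, hrange b⟩))
  · have hle := le_ker_of_ext i a hx
    have hl : ∀ y, tap j y = 0 → tap x y = 0 := fun y hy => hle ((hker y).1 hy)
    have hl' : RingHom.ker (tap j).toRingHom ≤ RingHom.ker (tap x).toRingHom := fun y hy => hl y hy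
    obtain ⟨z, hz⟩ := exists_hom_of_algHom (Z := T) (W := Z) (AlgHom.liftOfSurjective (tap j) hsur (tap x) hl')
    exact ⟨z, hom_ext_affine (by rw [tap_comp, hz, AlgHom.liftOfSurjective_comp])⟩

/-- Equivariant families on the monoid are the points of a closed subscheme. -/
theorem exists_representable [IsMonHom i] [QuasiCompact i.left] [IsSchemeTheoreticallyDominant i.left] :
    ∃ (Z : Over (Spec (CommRingCat.of k))) (j : Z ⟶ X)
      (e : (MonAct.eqvHom ((MonAct.regular M).restrict i) a).RepresentableBy Z),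
      IsClosedImmersion j.left ∧
      ∀ (T : Over (Spec (CommRingCat.of k))) (z : T ⟶ Z),
        (MonAct.eqvHom.evalAt ((MonAct.regular M).restrict i) a η[M]).app (op T) (e.homEquiv z) = z ≫ j := by
  obtain ⟨Z, j, hj, hext, huniv⟩ := exists_universal i a
  let ev := MonAct.eqvHom.evalAt ((MonAct.regular M).restrict i) a η[M]
  have horb : ∀ (T : Over (Spec (CommRingCat.of k))) (φ : (MonAct.eqvHom ((MonAct.regular M).restrict i) a).obj (op T)),
      (i ▷ T) ≫ φ.1 = (G ◁ ev.app (op T) φ) ≫ a.act := by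
    intro T φ
    apply hom_ext_lift₂
    intro T' g t
    rw [lift_whiskerRight_assoc, lift_whiskerLeft_assoc]
    have h := (MonAct.mem_eqvHom_iff φ.1).1 φ.2 T' g 1 t
    rw [MonAct.lift_restrict_act, MonAct.lift_regular_act, _root_.mul_one] at h
    refine h.trans (congrArg (fun z => lift g z ≫ a.act) ?_)
    show lift (1 : T' ⟶ M) t ≫ φ.1 = t ≫ lift (toUnit T ≫ η[M]) (𝟙 T) ≫ φ.1
    rw [comp_lift_assoc, Category.comp_id, Hom.one_def, ← Category.assoc t, comp_toUnit]
  have hinj : ∀ T, Function.Injective (ev.app (op T)) := fun T φ ψ e =>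
    Subtype.ext (cancel_whiskerRight i (by rw [horb, horb, e]))
  have h0 : ∀ (T : Over (Spec (CommRingCat.of k))) (z : T ⟶ Z),
      ∃ φ : (MonAct.eqvHom ((MonAct.regular M).restrict i) a).obj (op T), ev.app (op T) φ = z ≫ j := by
    intro T z
    obtain ⟨φ, hφ⟩ := hext.comp i a z
    exact ⟨⟨φ, isEquivariant_of_ext φ hφ⟩, eq_comp_eval φ hφ⟩
  choose f hf using h0
  have : Mono j := Over.mono_of_mono_left j
  refine ⟨Z, j, { homEquiv := fun {T} => Equiv.ofBijective (f T) ⟨fun z z' e => ?_, fun φ => ?_⟩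
                  homEquiv_comp := fun g z => ?_ }, hj, hf⟩
  · rw [← cancel_mono j, ← hf, ← hf, e]
  · obtain ⟨z, hz⟩ := huniv T (ev.app (op T) φ) ⟨φ.1, horb T φ⟩
    exact ⟨z, hinj T ((hf T z).trans hz)⟩
  · refine hinj _ ?_
    show ev.app _ (f _ (g ≫ z)) = ev.app _ ((MonAct.eqvHom _ a).map g.op (f _ z))
    rw [hf, Category.assoc, ← hf]
    exact (NatTrans.naturality_apply ev g.op (f _ z)).symm

end Groth.L14.MagnetUnits
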